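import Mathlib
import Groth.Agent.UnipHopfLib.Points
import Groth.Agent.ComodLib.Coeff

/-!
The Zariski topology on the points of an affine group and the Lie–Kolchin theorem.
-/

set_option autoImplicit false

noncomputable section

universe u v w

open HopfRep WithConv
open scoped ComodLib TensorProduct commutatorElement

namespace Groth.Agent.LieKolchinLib

variable {k : Type u} [Field k] {A : Type v} [CommRing A] [HopfAlgebra k A]

local notation "G" => WithConv (A →ₐ[k] k)

/-- The prime of a point. -/
def toPrime (g : G) : PrimeSpectrum A :=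
  PrimeSpectrum.comap g.ofConv.toRingHom (IsLocalRing.closedPoint k)

lemma toPrime_asIdeal (g : G) : (toPrime g).asIdeal = RingHom.ker g.ofConv.toRingHom := by
  ext a
  simp [toPrime, IsLocalRing.closedPoint, RingHom.mem_ker]

/-- The Zariski topology on the points. -/
def zTop : TopologicalSpace G := TopologicalSpace.induced toPrime inferInstance

attribute [local instance] zTop

lemma isClosed_eval_eq (a : A) (c : k) : IsClosed {g : G | g.ofConv a = c} := by
  refine isClosed_induced_iff.2 ⟨PrimeSpectrum.zeroLocus {a - algebraMap k A c}, PrimeSpectrum.isClosed_zeroLocus _, ?_⟩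
  ext g
  simp [PrimeSpectrum.mem_zeroLocus, toPrime_asIdeal, RingHom.mem_ker, sub_eq_zero]

/-- A regular function with finitely many values on a connected set of points is constant. -/
lemma const_of_finite_values {S : Set G} (hS : IsPreconnected S) (a : A) {T : Set k} (hT : T.Finite)
    (hval : ∀ g ∈ S, g.ofConv a ∈ T) {g₀ g : G} (h₀ : g₀ ∈ S) (hg : g ∈ S) :
    g.ofConv a = g₀.ofConv a := by
  by_contra hne
  let Z₁ : Set G := ⋃ c ∈ T \ {g₀.ofConv a}, {g | g.ofConv a = c}
  obtain ⟨x, hxS, hx0, hx1⟩ := isPreconnected_closed_iff.1 hS {g | g.ofConv a = g₀.ofConv a} Z₁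
    (isClosed_eval_eq a _)
    ((hT.subset Set.diff_subset).isClosed_biUnion fun c _ => isClosed_eval_eq a c)
    (fun x hx => by
      by_cases h : x.ofConv a = g₀.ofConv a
      · exact Or.inl h
      · exact Or.inr (Set.mem_biUnion (⟨hval x hx, h⟩ : x.ofConv a ∈ T \ {g₀.ofConv a}) rfl))
    ⟨g₀, h₀, rfl⟩ ⟨g, hg, Set.mem_biUnion (⟨hval g hg, hne⟩ : g.ofConv a ∈ T \ {g₀.ofConv a}) rfl⟩
  obtain ⟨c, hc, hxc⟩ := Set.mem_iUnion₂.1 hx1
  exact hc.2 ((hxc : x.ofConv a = c).symm.trans hx0)

/-- The points form a connected space. -/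
lemma isPreconnected_univ [IsAlgClosed k] [Algebra.FiniteType k A]
    (hconn : ∀ e : A, IsIdempotentElem e → e = 0 ∨ e = 1) : IsPreconnected (Set.univ : Set G) := by
  have hJ : IsJacobsonRing A := isJacobsonRing_of_finiteType (A := k)
  have hmeet : ∀ U : Set (PrimeSpectrum A), IsOpen U → U.Nonempty → ∃ g : G, toPrime g ∈ U := by
    intro U hU hne
    obtain ⟨p, hp⟩ := hne
    obtain ⟨_, ⟨f, rfl⟩, hpf, hfU⟩ :=
      PrimeSpectrum.isTopologicalBasis_basic_opens.exists_subset_of_mem_open hp hU
    by_contra hno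
    push Not at hno
    refine hpf ?_
    have hnil : IsNilpotent f := UnipHopf.isNilpotent_of_forall_point (L := k) fun g => by
      by_contra hg
      apply hno (toConv g)
      apply hfU
      show f ∉ (toPrime (toConv g)).asIdeal
      rwa [toPrime_asIdeal, RingHom.mem_ker]
    exact nilpotent_iff_mem_prime.1 hnil _ p.isPrime
  intro U V hU hV hcov hneU hneV
  obtain ⟨U', hU', rfl⟩ := isOpen_induced_iff.1 hU
  obtain ⟨V', hV', rfl⟩ := isOpen_induced_iff.1 hV
  by_contra hdis
  have hUV : U' ∩ V' = ∅ := by
    by_contra h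
    obtain ⟨g, hg⟩ := hmeet _ (hU'.inter hV') (Set.nonempty_iff_ne_empty.2 h)
    exact hdis ⟨g, trivial, hg.1, hg.2⟩
  have htot : U' ∪ V' = Set.univ := by
    by_contra h
    obtain ⟨p, hp⟩ := (Set.ne_univ_iff_exists_notMem _).1 h
    -- a closed point outside both opens
    obtain ⟨M, hM, hpM⟩ := Ideal.exists_le_maximal _ p.isPrime.ne_top
    let q : PrimeSpectrum A := ⟨M, hM.isPrime⟩
    have hpq : p ⤳ q := (PrimeSpectrum.le_iff_specializes p q).1 hpM
    have hq : q ∉ U' ∪ V' := fun hq => hp (hpq.mem_open (hU'.union hV') hq)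
    letI : Field (A ⧸ M) := Ideal.Quotient.field M
    haveI : Module.Finite k (A ⧸ M) := finite_of_finite_type_of_isJacobsonRing k (A ⧸ M)
    let e : k ≃ₐ[k] (A ⧸ M) := AlgEquiv.ofBijective (Algebra.ofId k (A ⧸ M))
      (IsAlgClosed.algebraMap_bijective_of_isIntegral (k := k) (K := A ⧸ M))
    let g : G := toConv (e.symm.toAlgHom.comp (Ideal.Quotient.mkₐ k M))
    have hgq : toPrime g = q := PrimeSpectrum.ext (by
      rw [toPrime_asIdeal]
      ext a
      simp [g, q, RingHom.mem_ker, Ideal.Quotient.eq_zero_iff_mem])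
    exact hq (hgq ▸ hcov (Set.mem_univ g))
  have hclopen : IsClopen U' := by
    refine ⟨isOpen_compl_iff.1 ?_, hU'⟩
    have : U'ᶜ = V' := Set.Subset.antisymm
      (fun x hx => ((htot.symm ▸ Set.mem_univ x : x ∈ U' ∪ V')).resolve_left hx)
      (fun x hx hx' => (Set.eq_empty_iff_forall_notMem.1 hUV) x ⟨hx', hx⟩)
    rwa [this]
  obtain ⟨e, he, hUe⟩ := PrimeSpectrum.isClopen_iff.1 hclopen
  obtain ⟨gu, -, hgu⟩ := hneU
  obtain ⟨gv, -, hgv⟩ := hneV
  rcases hconn e he with rfl | rfl
  · have : toPrime gu ∈ (PrimeSpectrum.basicOpen (0 : A) : Set (PrimeSpectrum A)) := hUe ▸ hgu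
    simp at this
  · have : toPrime gv ∈ U' := by rw [hUe]; simp
    exact (Set.eq_empty_iff_forall_notMem.1 hUV) _ ⟨this, hgv⟩

/-- Composition with an endomorphism of the coordinate ring is continuous. -/
lemma continuous_precomp (f : A →ₐ[k] A) : Continuous fun g : G => toConv (g.ofConv.comp f) := by
  refine continuous_induced_rng.2 ?_
  have e : (toPrime ∘ fun g : G => toConv (g.ofConv.comp f)) =
      PrimeSpectrum.comap f.toRingHom ∘ toPrime := funext fun g => PrimeSpectrum.ext (by
    simp only [Function.comp_apply, toPrime_asIdeal, PrimeSpectrum.comap_asIdeal]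
    ext a
    simp [RingHom.mem_ker])
  rw [e]
  exact (PrimeSpectrum.continuous_comap _).comp continuous_induced_dom

/-- Evaluation of universal points, as a monoid homomorphism. -/
def evalHom (g : G) : WithConv (A →ₐ[k] A) →* G where
  toFun U := toConv (g.ofConv.comp U.ofConv)
  map_one' := by
    refine WithConv.ext (AlgHom.ext fun a => ?_)
    show g.ofConv ((1 : WithConv (A →ₐ[k] A)) a) = (1 : G) a
    rw [AlgHom.convOne_apply, AlgHom.convOne_apply, AlgHom.commutes]
  map_mul' U U' := by
    refine WithConv.ext (AlgHom.ext fun a => ?_)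
    show g.ofConv ((U * U') a) = (toConv (g.ofConv.comp U.ofConv) * toConv (g.ofConv.comp U'.ofConv)) a
    rw [AlgHom.convMul_apply, AlgHom.convMul_apply]
    generalize CoalgebraStruct.comul (R := k) a = z
    induction z using TensorProduct.induction_on with
    | zero => simp
    | add x y hx hy => simp only [map_add, hx, hy]
    | tmul x y => simp

/-- The constant universal point. -/
def cst (x : G) : WithConv (A →ₐ[k] A) := toConv ((Algebra.ofId k A).comp x.ofConv)

/-- The identity as universal point. -/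
def gen : WithConv (A →ₐ[k] A) := toConv (AlgHom.id k A)

lemma evalHom_cst (g x : G) : evalHom g (cst x) = x := by
  refine WithConv.ext (AlgHom.ext fun a => ?_)
  show g.ofConv (algebraMap k A (x.ofConv a)) = x.ofConv a
  rw [AlgHom.commutes]
  rfl

lemma evalHom_gen (g : G) : evalHom g gen = g := rfl

lemma continuous_word (U : WithConv (A →ₐ[k] A)) : Continuous fun g : G => evalHom g U :=
  continuous_precomp U.ofConv

lemma continuous_mul_left (x : G) : Continuous fun g : G => x * g := by
  have h := continuous_word (cst x * gen)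
  simpa only [map_mul, evalHom_cst, evalHom_gen] using h

lemma continuous_conj (x : G) : Continuous fun g : G => g⁻¹ * x * g := by
  have h := continuous_word (gen⁻¹ * cst x * gen)
  simpa only [map_mul, map_inv, evalHom_cst, evalHom_gen] using h

lemma continuous_commutator (x : G) : Continuous fun g : G => ⁅x, g⁆ := by
  have h := continuous_word (cst x * gen * (cst x)⁻¹ * gen⁻¹)
  simpa only [commutatorElement_def, map_mul, map_inv, evalHom_cst, evalHom_gen] using h

/-- The terms of the derived series are connected. -/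
lemma isPreconnected_derived [IsAlgClosed k] [Algebra.FiniteType k A]
    (hconn : ∀ e : A, IsIdempotentElem e → e = 0 ∨ e = 1) (i : ℕ) :
    IsPreconnected (derivedSeries G i : Set G) := by
  induction i with
  | zero => rw [derivedSeries_zero, Subgroup.coe_top]; exact isPreconnected_univ hconn
  | succ i ih =>
    refine isPreconnected_of_forall 1 fun g hg => ?_
    rw [derivedSeries_succ, Subgroup.commutator_def] at hg
    induction hg using Subgroup.closure_induction with
    | mem g hg =>
      obtain ⟨x, hx, y, hy, rfl⟩ := hg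
      refine ⟨(fun z => ⁅x, z⁆) '' (derivedSeries G i : Set G), ?_,
        ⟨1, one_mem _, commutatorElement_one_right _⟩, ⟨y, hy, rfl⟩,
        ih.image _ (continuous_commutator x).continuousOn⟩
      rintro _ ⟨z, hz, rfl⟩
      rw [derivedSeries_succ]
      exact Subgroup.commutator_mem_commutator hx hz
    | one => exact ⟨{1}, by simp [one_mem], rfl, rfl, isPreconnected_singleton⟩
    | mul g h _ _ hg hh =>
      obtain ⟨T, hT, h1, hgT, hTc⟩ := hg
      obtain ⟨T', hT', h1', hhT, hTc'⟩ := hh
      refine ⟨T ∪ (fun z => g * z) '' T', ?_, Or.inl h1, Or.inr ⟨h, hhT, rfl⟩, ?_⟩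
      · rintro z (hz | ⟨z, hz, rfl⟩)
        · exact hT hz
        · exact Subgroup.mul_mem _ (hT hgT) (hT' hz)
      · exact hTc.union g hgT ⟨1, h1', mul_one g⟩ (hTc'.image _ (continuous_mul_left g).continuousOn)
    | inv g _ hg =>
      obtain ⟨T, hT, h1, hgT, hTc⟩ := hg
      refine ⟨(fun z => g⁻¹ * z) '' T, ?_, ⟨g, hgT, inv_mul_cancel g⟩, ⟨1, h1, mul_one _⟩,
        hTc.image _ (continuous_mul_left g⁻¹).continuousOn⟩
      rintro _ ⟨z, hz, rfl⟩
      exact Subgroup.mul_mem _ (Subgroup.inv_mem _ (hT hgT)) (hT hz)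

section Rep

variable {V : Type w} [AddCommGroup V] [Module k V] [Comod k A V]

/-- The functional of a point. -/
def fn (g : G) : ComodLib.Dual' k A := toConv g.ofConv.toLinearMap

lemma fn_mul (g h : G) : fn (g * h) = fn g * fn h := by
  refine WithConv.ext (LinearMap.ext fun a => ?_)
  show (g * h) a = (fn g * fn h) a
  rw [AlgHom.convMul_apply, LinearMap.convMul_apply]
  generalize CoalgebraStruct.comul (R := k) a = z
  induction z using TensorProduct.induction_on with
  | zero => simp
  | add x y hx hy => simp only [map_add, hx, hy]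
  | tmul x y => simp [fn]

lemma fn_one : fn (1 : G) = (1 : ComodLib.Dual' k A) := by
  refine WithConv.ext (LinearMap.ext fun a => ?_)
  show (1 : G) a = (1 : ComodLib.Dual' k A) a
  rw [AlgHom.convOne_apply, LinearMap.convOne_apply]

variable (V) in
/-- The action of the points. -/
def rep : G →* Module.End k V where
  toFun g := ComodLib.actAlgHom k A V (fn g)
  map_one' := by rw [fn_one, map_one]
  map_mul' g h := by rw [fn_mul, map_mul]

lemma apply_rep (φ : V →ₗ[k] k) (g : G) (v : V) :
    φ (rep V g v) = g.ofConv (ComodLib.coeff (A := A) φ v) :=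
  ComodLib.apply_slice φ _ _

/-- A subspace stable under the points is a subcomodule. -/
lemma isSubcomod_of_stable [IsAlgClosed k] [Algebra.FiniteType k A] [IsReduced A]
    (W : Submodule k V) (h : ∀ g : G, ∀ v ∈ W, rep V g v ∈ W) : IsSubcomod (k := k) (A := A) W := by
  rw [ComodLib.isSubcomod_iff]
  intro f v hv
  rw [← Subspace.dualAnnihilator_dualCoannihilator_eq (W := W), Submodule.mem_dualCoannihilator]
  intro φ hφ
  rw [Submodule.mem_dualAnnihilator] at hφ
  have h0 : ComodLib.coeff (A := A) φ v = 0 :=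
    isNilpotent_iff_eq_zero.1 (UnipHopf.isNilpotent_of_forall_point (L := k) fun g => by
      have := apply_rep φ (toConv g) v
      rw [hφ _ (h _ v hv)] at this
      exact this.symm)
  show φ (ComodLib.slice f.ofConv (Comod.coact (k := k) (A := A) v)) = 0
  rw [ComodLib.apply_slice]
  exact (congrArg f.ofConv h0).trans (map_zero _)

/-- A normal subgroup with commutative image acts by scalars on a simple comodule. -/
lemma exists_scalar [IsAlgClosed k] [Algebra.FiniteType k A] [IsReduced A] [FiniteDimensional k V]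
    (hconn : ∀ e : A, IsIdempotentElem e → e = 0 ∨ e = 1) (hV : IsSimpleComod k A V)
    (H : Subgroup G) [hH : H.Normal] (hc : ∀ x ∈ H, ∀ y ∈ H, Commute (rep V x) (rep V y)) :
    ∃ χ : G → k, ∀ x ∈ H, ∀ v : V, rep V x v = χ x • v := by
  classical
  have : Nontrivial V := hV.1
  -- a minimal stable subspace
  obtain ⟨W, ⟨hW0, hWs⟩, hWmin⟩ := wellFounded_lt.has_min
    {W : Submodule k V | W ≠ ⊥ ∧ ∀ x ∈ H, ∀ v ∈ W, rep V x v ∈ W} ⟨⊤, top_ne_bot, fun _ _ _ _ => trivial⟩
  obtain ⟨v, hv, hv0⟩ := (Submodule.ne_bot_iff W).1 hW0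
  have hscal : ∀ x ∈ H, ∃ c : k, ∀ w ∈ W, rep V x w = c • w := by
    intro x hx
    let T : Module.End k W := (rep V x).restrict (fun w hw => hWs x hx w hw)
    have : Nontrivial W := ⟨⟨⟨v, hv⟩, 0, fun h => hv0 (congrArg Subtype.val h)⟩⟩
    obtain ⟨c, hc'⟩ := T.exists_eigenvalue
    refine ⟨c, fun w hw => ?_⟩
    obtain ⟨u, hu, hu0⟩ := hc'.exists_hasEigenvector
    let W' : Submodule k V := W ⊓ (rep V x).eigenspace c
    have huW : (u : V) ∈ W' := ⟨u.2, Module.End.mem_eigenspace_iff.2
      (congrArg Subtype.val (Module.End.mem_eigenspace_iff.1 hu))⟩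
    have hW' : W' = W := by
      by_contra hne
      refine hWmin W' ⟨(Submodule.ne_bot_iff _).2 ⟨u, huW, fun h => hu0 (Subtype.ext h)⟩, fun y hy z hz => ?_⟩
        (lt_of_le_of_ne inf_le_left hne)
      refine ⟨hWs y hy z hz.1, Module.End.mem_eigenspace_iff.2 ?_⟩
      have e := LinearMap.congr_fun (hc x hx y hy).eq z
      simp only [Module.End.mul_apply] at e
      rw [e, Module.End.mem_eigenspace_iff.1 hz.2, map_smul]
    exact Module.End.mem_eigenspace_iff.1 (hW'.symm ▸ hw : w ∈ W').2
  choose! χ hχ using hscal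
  refine ⟨χ, ?_⟩
  obtain ⟨φ, hφ⟩ := ComodLib.exists_dual_ne (k := k) hv0
  let φ₀ := (φ v)⁻¹ • φ
  have hφ₀ : φ₀ v = 1 := by simp [φ₀, inv_mul_cancel₀ hφ]
  have hmove : ∀ x ∈ H, ∀ g : G, rep V x (rep V g v) = χ x • rep V g v := by
    intro x hx g
    have hmem : ∀ g : G, g⁻¹ * x * g ∈ H := fun g => by simpa using hH.conj_mem x hx g⁻¹
    have hconj : ∀ g : G, rep V x (rep V g v) = χ (g⁻¹ * x * g) • rep V g v := fun g => by
      rw [← map_smul, ← hχ _ (hmem g) v hv, ← Module.End.mul_apply, ← Module.End.mul_apply,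
        ← map_mul, ← map_mul]
      congr 2
      group
    have hval : ∀ g : G, χ (g⁻¹ * x * g) = (g⁻¹ * x * g).ofConv (ComodLib.coeff (A := A) φ₀ v) :=
      fun g => by rw [← apply_rep, hχ _ (hmem g) v hv, map_smul, hφ₀, smul_eq_mul, mul_one]
    have hfin : {c : k | (rep V x).HasEigenvalue c}.Finite :=
      (rep V x).finite_hasEigenvalue
    have heig : ∀ g : G, χ (g⁻¹ * x * g) ∈ {c : k | (rep V x).HasEigenvalue c} := fun g =>
      Module.End.hasEigenvalue_of_hasEigenvector ⟨Module.End.mem_eigenspace_iff.2 (hconj g), fun h0 => hv0 (by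
        have := congrArg (rep V g⁻¹) h0
        rwa [← Module.End.mul_apply, ← map_mul, inv_mul_cancel, map_one, map_zero, Module.End.one_apply] at this)⟩
    have hpc : IsPreconnected ((fun g : G => g⁻¹ * x * g) '' Set.univ) :=
      (isPreconnected_univ hconn).image _ (continuous_conj x).continuousOn
    have := const_of_finite_values hpc (ComodLib.coeff (A := A) φ₀ v) hfin
      (by rintro _ ⟨g', -, rfl⟩; rw [← hval]; exact heig g')
      (g₀ := x) (g := g⁻¹ * x * g) ⟨1, trivial, by group⟩ ⟨g, trivial, rfl⟩
    rw [hconj g, hval g, this]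
    congr 1
    rw [← apply_rep, hχ x hx v hv, map_smul, hφ₀, smul_eq_mul, mul_one]
  -- the weight space is everything
  let E : Submodule k V :=
    { carrier := {w | ∀ x ∈ H, ∀ g : G, rep V x (rep V g w) = χ x • rep V g w}
      zero_mem' := fun x _ g => by simp
      add_mem' := fun {a b} ha hb x hx g => by rw [map_add, map_add, ha x hx g, hb x hx g, smul_add]
      smul_mem' := fun c a ha x hx g => by rw [map_smul, map_smul, ha x hx g, smul_comm] }
  have hE : IsSubcomod (k := k) (A := A) E := isSubcomod_of_stable E fun g' w hw x hx g => by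
    rw [← Module.End.mul_apply (rep V g), ← map_mul]
    exact hw x hx _
  have hEtop : E = ⊤ := (hV.2 E hE).resolve_left fun h => hv0 (by
    have : v ∈ E := hmove
    rwa [h, Submodule.mem_bot] at this)
  intro x hx w
  have := (show w ∈ E from hEtop ▸ Submodule.mem_top) x hx 1
  rwa [map_one, Module.End.one_apply] at this

/-- The Lie–Kolchin theorem. -/
theorem finrank_eq_one [IsAlgClosed k] [Algebra.FiniteType k A] [IsReduced A] [FiniteDimensional k V]
    [Group.IsSolvable G] (hconn : ∀ e : A, IsIdempotentElem e → e = 0 ∨ e = 1) (hV : IsSimpleComod k A V) :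
    Module.finrank k V = 1 := by
  classical
  have : Nontrivial V := hV.1
  obtain ⟨d, hd⟩ : ∃ n, derivedSeries G n = ⊥ := Group.IsSolvable.solvable
  have hcomm : ∀ i, (∀ z ∈ derivedSeries G (i + 1), rep V z = 1) →
      ∀ x ∈ derivedSeries G i, ∀ y ∈ derivedSeries G i, Commute (rep V x) (rep V y) := by
    intro i hi x hx y hy
    have h := hi ⁅x, y⁆ (by rw [derivedSeries_succ]; exact Subgroup.commutator_mem_commutator hx hy)
    have e : x * y = ⁅x, y⁆ * (y * x) := by rw [commutatorElement_def]; group
    show rep V x * rep V y = rep V y * rep V x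
    rw [← map_mul, e, map_mul, h, one_mul, map_mul]
  have hmain : ∀ j i, i + j = d → 1 ≤ i → ∀ z ∈ derivedSeries G i, rep V z = 1 := by
    intro j
    induction j with
    | zero =>
      intro i hij _ z hz
      rw [show i = d by omega, hd, Subgroup.mem_bot] at hz
      rw [hz, map_one]
    | succ j ih =>
      intro i hij hi
      have hnext := ih (i + 1) (by omega) (by omega)
      obtain ⟨χ, hχ⟩ := exists_scalar hconn hV (derivedSeries G i) (hcomm i hnext)
      obtain ⟨v, hv⟩ := exists_ne (0 : V)
      obtain ⟨φ, hφ⟩ := ComodLib.exists_dual_ne (k := k) hv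
      let φ₀ := (φ v)⁻¹ • φ
      have hφ₀ : φ₀ v = 1 := by simp [φ₀, inv_mul_cancel₀ hφ]
      -- determinants of commutators are one
      have hdet : ∀ z ∈ derivedSeries G i, LinearMap.det (rep V z) = 1 := by
        intro z hz
        have hz1 : z ∈ derivedSeries G 1 := derivedSeries_antitone G hi hz
        rw [derivedSeries_succ, derivedSeries_zero, ← commutator_def] at hz1
        let D : G →* k := LinearMap.det.comp (rep V)
        have hker : commutator G ≤ D.toHomUnits.ker := Abelianization.commutator_subset_ker _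
        exact congrArg Units.val (MonoidHom.mem_ker.1 (hker hz1))
      have hscal : ∀ z ∈ derivedSeries G i, rep V z = χ z • (1 : Module.End k V) := fun z hz =>
        LinearMap.ext fun w => hχ z hz w
      have hroot : ∀ z ∈ derivedSeries G i,
          z.ofConv (ComodLib.coeff (A := A) φ₀ v) ∈ (Polynomial.X ^ Module.finrank k V - 1 : Polynomial k).rootSet k := by
        intro z hz
        rw [← apply_rep, hχ z hz v, map_smul, hφ₀, smul_eq_mul, mul_one, Polynomial.mem_rootSet]
        refine ⟨by
          have h0 := Polynomial.X_pow_sub_C_ne_zero (R := k) (Module.finrank_pos (R := k) (M := V)) (1 : k)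
          rwa [map_one] at h0, ?_⟩
        have := hdet z hz
        rw [hscal z hz, LinearMap.det_smul, map_one, mul_one] at this
        simp [this]
      intro z hz
      have h1 := const_of_finite_values (isPreconnected_derived hconn i) _
        (Polynomial.rootSet_finite _ _) hroot (g₀ := 1) (g := z) (one_mem _) hz
      rw [← apply_rep, ← apply_rep, hχ z hz v, map_one, Module.End.one_apply, map_smul, hφ₀,
        smul_eq_mul, mul_one] at h1
      rw [hscal z hz, h1, one_smul]
  have h0 : ∀ z ∈ derivedSeries G 1, rep V z = 1 := by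
    rcases Nat.eq_zero_or_pos d with rfl | hpos
    · intro z hz
      have := derivedSeries_antitone G (Nat.zero_le 1) hz
      rw [hd, Subgroup.mem_bot] at this
      rw [this, map_one]
    · exact hmain (d - 1) 1 (by omega) le_rfl
  obtain ⟨χ, hχ⟩ := exists_scalar hconn hV (derivedSeries G 0) (hcomm 0 h0)
  obtain ⟨v, hv⟩ := exists_ne (0 : V)
  refine _root_.finrank_eq_one v hv fun w => ?_
  have htop : (k ∙ v) = ⊤ := (hV.2 _ (isSubcomod_of_stable _ fun g u hu => by
    rw [hχ g (by rw [derivedSeries_zero]; trivial) u]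
    exact Submodule.smul_mem _ _ hu)).resolve_left (by simp [hv])
  exact Submodule.mem_span_singleton.1 (htop ▸ Submodule.mem_top)

end Rep

end Groth.Agent.LieKolchinLib
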