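import Mathlib
import Groth.Agent.LieKolchinLib.Basic
import Groth.Agent.S7975
import Groth.Agent.S7986

/-!
Connected affine groups of dimension one are commutative.
-/

set_option autoImplicit false
set_option maxHeartbeats 1000000

noncomputable section

universe u v w

open HopfRep WithConv
open scoped ComodLib TensorProduct commutatorElement

namespace Groth.Agent.LieKolchinLib

attribute [local instance] zTop

section

variable {k : Type u} [Field k] {A : Type v} [CommRing A] [HopfAlgebra k A]

local notation "G" => WithConv (A →ₐ[k] k)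

lemma continuous_mul_right (x : G) : Continuous fun g : G => g * x := by
  have h := continuous_word (gen * cst x)
  simpa only [map_mul, evalHom_cst, evalHom_gen] using h

lemma continuous_inv : Continuous fun g : G => g⁻¹ := by
  have h := continuous_word (gen : WithConv (A →ₐ[k] A))⁻¹
  simpa only [map_inv, evalHom_gen] using h

/-- The closure of a subgroup of points. -/
def closureSub (H : Subgroup G) : Subgroup G where
  carrier := closure (H : Set G)
  one_mem' := subset_closure H.one_mem
  inv_mem' {a} ha := map_mem_closure continuous_inv ha fun x hx => H.inv_mem hx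
  mul_mem' {a b} ha hb := by
    have h1 : ∀ h ∈ H, ∀ z ∈ closure (H : Set G), h * z ∈ closure (H : Set G) := fun h hh z hz =>
      map_mem_closure (continuous_mul_left h) hz fun x hx => H.mul_mem hh hx
    have h2 := map_mem_closure (continuous_mul_right b) ha
      (fun x hx => h1 x hx b hb : Set.MapsTo (fun g => g * b) (H : Set G) (closure (H : Set G)))
    rwa [closure_closure] at h2

variable [IsAlgClosed k] [Algebra.FiniteType k A] [IsReduced A]

/-- A regular function is determined by its values at points. -/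
lemma eq_of_forall_point {a b : A} (h : ∀ g : G, g.ofConv a = g.ofConv b) : a = b :=
  sub_eq_zero.1 (isNilpotent_iff_eq_zero.1 (UnipHopf.isNilpotent_of_forall_point (L := k) fun g => by
    rw [map_sub, sub_eq_zero]
    exact h (toConv g)))

lemma exists_point_le (P : Ideal A) [P.IsPrime] {a : A} (ha : a ∉ P) :
    ∃ g : G, (∀ x ∈ P, g.ofConv x = 0) ∧ g.ofConv a ≠ 0 := by
  by_contra hno
  push Not at hno
  apply ha
  rw [← Ideal.Quotient.eq_zero_iff_mem]
  refine isNilpotent_iff_eq_zero.1 (UnipHopf.isNilpotent_of_forall_point (L := k) fun g => ?_)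
  exact hno (toConv (g.comp (Ideal.Quotient.mkₐ k P))) fun x hx => by
    show g (Ideal.Quotient.mk P x) = 0
    rw [Ideal.Quotient.eq_zero_iff_mem.2 hx, map_zero]

variable (k) in
include k in
/-- A connected reduced affine group over an algebraically closed field is irreducible. -/
theorem isDomain (hconn : ∀ e : A, IsIdempotentElem e → e = 0 ∨ e = 1) : IsDomain A := by
  classical
  have hker : ∀ φ : A →ₐ[k] k, (RingHom.ker φ).IsPrime := fun φ => RingHom.ker_isPrime φ
  have : IsNoetherianRing A := Algebra.FiniteType.isNoetherianRing k A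
  have : Nontrivial A := (Bialgebra.counitAlgHom k A).toRingHom.domain_nontrivial
  have hfin : (minimalPrimes A).Finite := minimalPrimes.finite_of_isNoetherianRing A
  let s := hfin.toFinset
  have hs : ∀ P, P ∈ s ↔ P ∈ minimalPrimes A := fun P => hfin.mem_toFinset
  -- every point lies on exactly one component
  have huniq : ∀ g : G, ∀ P ∈ minimalPrimes A, ∀ Q ∈ minimalPrimes A,
      (∀ x ∈ P, g.ofConv x = 0) → (∀ x ∈ Q, g.ofConv x = 0) → P = Q := by
    obtain ⟨P₀, hP₀⟩ : (minimalPrimes A).Nonempty :=
      ⟨_, (Ideal.exists_minimalPrimes_le (I := (⊥ : Ideal A))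
        (J := RingHom.ker (Bialgebra.counitAlgHom k A)) bot_le).choose_spec.1⟩
    have hP₀' : P₀.IsPrime := hP₀.1.1
    have hex : ∀ Q ∈ s.erase P₀, ∃ x ∈ Q, x ∉ P₀ := fun Q hQ => by
      obtain ⟨hne, hQs⟩ := Finset.mem_erase.1 hQ
      by_contra h
      push Not at h
      exact hne (le_antisymm h (hP₀.2 ((hs Q).1 hQs).1 h))
    choose! f hf hf' using hex
    have hprod : (∏ Q ∈ s.erase P₀, f Q) ∉ P₀ := by
      rw [Ideal.IsPrime.prod_mem_iff]
      rintro ⟨Q, hQ, hmem⟩
      exact hf' Q hQ hmem
    obtain ⟨g₀, hg₀, hg₀'⟩ := exists_point_le (k := k) P₀ hprod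
    have hg₀u : ∀ Q ∈ minimalPrimes A, (∀ x ∈ Q, g₀.ofConv x = 0) → Q = P₀ := fun Q hQ hx => by
      by_contra hne
      refine hg₀' (hx _ ?_)
      have hQ' : Q ∈ s.erase P₀ := Finset.mem_erase.2 ⟨hne, (hs Q).2 hQ⟩
      exact Ideal.mem_of_dvd _ (Finset.dvd_prod_of_mem f hQ') (hf Q hQ')
    intro g P hP Q hQ hgP hgQ
    -- translate
    let x := g * g₀⁻¹
    let f₁ : A →ₐ[k] A := (cst x * gen).ofConv
    let f₂ : A →ₐ[k] A := (cst x⁻¹ * gen).ofConv
    have hcomp : ∀ (y z : G) (a : A), z.ofConv ((cst y * gen).ofConv a) = (y * z).ofConv a := fun y z a => by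
      have := congrArg (fun w : G => w.ofConv a) (map_mul (evalHom z) (cst y) gen)
      rw [evalHom_cst, evalHom_gen] at this
      exact this
    have h12 : ∀ a, f₁ (f₂ a) = a := fun a => eq_of_forall_point fun z => by
      rw [hcomp, hcomp, ← mul_assoc, inv_mul_cancel, one_mul]
    have h21 : ∀ a, f₂ (f₁ a) = a := fun a => eq_of_forall_point fun z => by
      rw [hcomp, hcomp, ← mul_assoc, mul_inv_cancel, one_mul]
    let τ : A ≃+* A := RingEquiv.ofRingHom f₁.toRingHom f₂.toRingHom
      (RingHom.ext h12) (RingHom.ext h21)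
    have key : ∀ P ∈ minimalPrimes A, (∀ a ∈ P, g.ofConv a = 0) → P.map τ = P₀ := by
      intro P hP hgP
      refine hg₀u _ ?_ fun a ha => ?_
      · rw [minimalPrimes_eq_minimals, Set.mem_setOf_eq] at hP ⊢
        have hPp : P.IsPrime := hP.1
        refine ⟨Ideal.map_isPrime_of_equiv τ, fun Q hQ hle => ?_⟩
        have hQ' : (Q.comap τ).IsPrime := Ideal.IsPrime.comap τ
        have h3 : Q.comap τ ≤ P := by
          rw [← Ideal.comap_map_of_bijective (f := τ) τ.bijective (I := P)]
          exact Ideal.comap_mono hle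
        have h4 := hP.2 hQ' h3
        exact Ideal.map_le_iff_le_comap.2 h4
      · rw [Ideal.mem_map_iff_of_surjective τ τ.surjective] at ha
        obtain ⟨b, hb, rfl⟩ := ha
        show g₀.ofConv (f₁ b) = 0
        rw [hcomp, show x * g₀ = g by simp [x]]
        exact hgP b hb
    have := congrArg (Ideal.comap τ) ((key P hP hgP).trans (key Q hQ hgQ).symm)
    rwa [Ideal.comap_map_of_bijective (f := τ) τ.bijective, Ideal.comap_map_of_bijective (f := τ) τ.bijective] at this
  -- only one component
  suffices hone : ∀ P ∈ minimalPrimes A, ∀ Q ∈ minimalPrimes A, P = Q by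
    obtain ⟨P, hP⟩ : (minimalPrimes A).Nonempty :=
      ⟨_, (Ideal.exists_minimalPrimes_le (I := (⊥ : Ideal A))
        (J := RingHom.ker (Bialgebra.counitAlgHom k A)) bot_le).choose_spec.1⟩
    have hbot : P = ⊥ := by
      refine le_antisymm (fun a ha => ?_) bot_le
      rw [Ideal.mem_bot]
      refine eq_of_forall_point (k := k) fun g => ?_
      obtain ⟨Q, hQ, hQg⟩ := Ideal.exists_minimalPrimes_le (I := (⊥ : Ideal A))
        (J := RingHom.ker g.ofConv) bot_le
      rw [map_zero]
      exact hQg ((hone P hP Q hQ) ▸ ha)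
    have : (⊥ : Ideal A).IsPrime := hbot ▸ hP.1.1
    exact IsDomain.of_bot_isPrime A
  intro P hP Q hQ
  by_contra hne
  have hP' : P.IsPrime := hP.1.1
  have hQ' : Q.IsPrime := hQ.1.1
  let Z : Ideal A → Set G := fun R => {g | ∀ a ∈ R, g.ofConv a = 0}
  have hZc : ∀ R, IsClosed (Z R) := fun R => by
    have : Z R = ⋂ a ∈ R, {g : G | g.ofConv a = 0} := by ext g; simp [Z]
    rw [this]
    exact isClosed_biInter fun a _ => isClosed_eval_eq a 0
  obtain ⟨gP, hgP, -⟩ := exists_point_le (k := k) P (a := 1) P.one_notMem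
  obtain ⟨gQ, hgQ, -⟩ := exists_point_le (k := k) Q (a := 1) Q.one_notMem
  obtain ⟨g, -, hg1, hg2⟩ := isPreconnected_closed_iff.1 (isPreconnected_univ (k := k) hconn)
    (Z P) (⋃ R ∈ s.erase P, Z R) (hZc P) (isClosed_biUnion_finset fun R _ => hZc R)
    (fun g _ => by
      obtain ⟨R, hR, hRg⟩ := Ideal.exists_minimalPrimes_le (I := (⊥ : Ideal A))
        (J := RingHom.ker g.ofConv) bot_le
      by_cases hRP : R = P
      · exact Or.inl fun a ha => hRg (hRP ▸ ha)
      · exact Or.inr (Set.mem_biUnion (Finset.mem_erase.2 ⟨hRP, (hs R).2 hR⟩) fun a ha => hRg ha))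
    ⟨gP, trivial, hgP⟩ ⟨gQ, trivial, Set.mem_biUnion (Finset.mem_erase.2 ⟨Ne.symm hne, (hs Q).2 hQ⟩) hgQ⟩
  obtain ⟨R, hR, hRg⟩ := Set.mem_iUnion₂.1 hg2
  obtain ⟨hRP, hRs⟩ := Finset.mem_erase.1 hR
  exact hRP (huniq g R ((hs R).1 hRs) P hP hRg hg1)

/-- A set of points killed by no nonzero function. -/
def IsDenseSet (S : Set G) : Prop := ∀ a : A, (∀ g ∈ S, g.ofConv a = 0) → a = 0

omit [IsAlgClosed k] [Algebra.FiniteType k A] [IsReduced A] in
lemma exists_ne_zero_of_notMem_closure {S : Set G} {g : G} (hg : g ∉ closure S) :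
    ∃ a : A, (∀ s ∈ S, s.ofConv a = 0) ∧ g.ofConv a ≠ 0 := by
  obtain ⟨t, ht, hpre⟩ := isClosed_induced_iff.1 (isClosed_closure (s := S))
  obtain ⟨E, rfl⟩ := (PrimeSpectrum.isClosed_iff_zeroLocus t).1 ht
  by_contra h
  push Not at h
  apply hg
  rw [← hpre]
  show toPrime g ∈ PrimeSpectrum.zeroLocus E
  rw [PrimeSpectrum.mem_zeroLocus, toPrime_asIdeal]
  intro a ha
  refine RingHom.mem_ker.2 (h a fun s hs => ?_)
  have h1 : s ∈ toPrime ⁻¹' PrimeSpectrum.zeroLocus E := hpre.symm ▸ subset_closure hs
  rw [Set.mem_preimage, PrimeSpectrum.mem_zeroLocus, toPrime_asIdeal] at h1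
  exact RingHom.mem_ker.1 (h1 ha)

/-- In dimension at most one a connected set of points is dense or a single point. -/
lemma dense_or_subsingleton [Ring.KrullDimLE 1 A]
    (hconn : ∀ e : A, IsIdempotentElem e → e = 0 ∨ e = 1) {S : Set G} (hS : IsPreconnected S) :
    IsDenseSet S ∨ S.Subsingleton := by
  have := isDomain k hconn
  have : IsNoetherianRing A := Algebra.FiniteType.isNoetherianRing k A
  by_cases h : IsDenseSet S
  · exact Or.inl h
  refine Or.inr ?_
  simp only [IsDenseSet, not_forall] at h
  obtain ⟨a, ha, ha0⟩ := h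
  have hfinS : S.Finite := by
    have hmax : ∀ g : G, (RingHom.ker g.ofConv).IsMaximal := fun g =>
      RingHom.ker_isMaximal_of_surjective g.ofConv fun c => ⟨algebraMap k A c, AlgHom.commutes _ c⟩
    refine Set.Finite.of_finite_image (f := fun g : G => RingHom.ker g.ofConv) ?_ ?_
    · refine (Ideal.finite_minimalPrimes_of_isNoetherianRing A (Ideal.span {a})).subset ?_
      rintro _ ⟨g, hg, rfl⟩
      refine ⟨⟨(hmax g).isPrime, (Ideal.span_singleton_le_iff_mem _).2 (ha g hg)⟩, fun Q hQ hle => ?_⟩
      have hQ0 : Q ≠ ⊥ := fun e => ha0 (by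
        have := hQ.2 (Ideal.mem_span_singleton_self a)
        rwa [e, Ideal.mem_bot] at this)
      exact ((Ring.krullDimLE_one_iff_of_noZeroDivisors.mp ‹_› Q hQ0 hQ.1).eq_of_le
        (hmax g).ne_top hle).ge
    · intro g _ g' _ he
      refine WithConv.ext (AlgHom.ext fun b => ?_)
      have : b - algebraMap k A (g.ofConv b) ∈ RingHom.ker g.ofConv := by
        rw [RingHom.mem_ker, map_sub, AlgHom.commutes]
        exact sub_self _
      simp only at he
      rw [he, RingHom.mem_ker, map_sub, AlgHom.commutes, sub_eq_zero] at this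
      exact this.symm
  intro g hg g' hg'
  refine WithConv.ext (AlgHom.ext fun b => ?_)
  exact const_of_finite_values hS b (hfinS.image fun h : G => h.ofConv b)
    (fun h hh => ⟨h, hh, rfl⟩) hg' hg

/-- A group all of whose points act unipotently is unipotent (any universe of `A`). -/
lemma isUnipotent_of_nilpotent
    (h : ∀ (y : G) (V : Type v) [AddCommGroup V] [Module k V] [Comod k A V] [Module.Finite k V],
      IsNilpotent (rep V y - 1)) : IsUnipotent k A := by
  intro V _ _ _ hV hnt
  haveI := hV
  haveI := hnt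
  obtain ⟨v, hv0, hv⟩ := Groth.Agent.S7975.result k G V (rep V) fun g => h g V
  refine (Submodule.ne_bot_iff _).2 ⟨v, ?_, hv0⟩
  show HopfRep.Comod.coact (k := k) (A := A) v = v ⊗ₜ[k] (1 : A)
  refine ComodLib.ext_sliceL fun φ => ?_
  rw [ComodLib.sliceL_tmul]
  refine eq_of_forall_point (k := k) fun g => ?_
  rw [map_smul, map_one, smul_eq_mul, mul_one]
  exact (apply_rep φ g v).symm.trans (congrArg φ (hv g))

/-- If some conjugation orbit is dense, the group is unipotent. -/
lemma isUnipotent_of_dense_orbit {x : WithConv (A →ₐ[k] k)}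
    (hx : IsDenseSet ((fun g => g⁻¹ * x * g) '' (Set.univ : Set (WithConv (A →ₐ[k] k))))) :
    IsUnipotent k A := by
  refine isUnipotent_of_nilpotent fun y V _ _ _ hV => ?_
  classical
  let b := Module.finBasis k V
  let M : Matrix (Fin (Module.finrank k V)) (Fin (Module.finrank k V)) A :=
    Matrix.of fun i j => ComodLib.coeff (A := A) (b.coord i) (b j)
  have hM : ∀ y : WithConv (A →ₐ[k] k), (rep V y).charpoly = M.charpoly.map y.ofConv.toRingHom := by
    intro y
    rw [← LinearMap.charpoly_toMatrix (rep V y) b, ← Matrix.charpoly_map]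
    congr 1
    ext i j
    rw [LinearMap.toMatrix_apply, ← Module.Basis.coord_apply, apply_rep]
    rfl
  have hconst : ∀ y : WithConv (A →ₐ[k] k), (rep V y).charpoly = (rep V x).charpoly := by
    have hc : ∀ m, M.charpoly.coeff m = algebraMap k A ((rep V x).charpoly.coeff m) := fun m => by
      rw [← sub_eq_zero]
      refine hx _ ?_
      rintro _ ⟨y, -, rfl⟩
      rw [map_sub, AlgHom.commutes, sub_eq_zero]
      have h := congrArg (fun P : Polynomial k => P.coeff m) (hM (y⁻¹ * x * y))
      simp only [Polynomial.coeff_map] at h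
      refine h.symm.trans ?_
      let u : (Module.End k V)ˣ := ⟨rep V y⁻¹, rep V y, by rw [← map_mul, inv_mul_cancel, map_one],
        by rw [← map_mul, mul_inv_cancel, map_one]⟩
      have e : rep V (y⁻¹ * x * y) =
          (LinearMap.GeneralLinearGroup.generalLinearEquiv k V u).conj (rep V x) := by
        rw [map_mul, map_mul]
        rfl
      rw [e, LinearEquiv.charpoly_conj]
      rfl
    intro y
    refine Polynomial.ext fun m => ?_
    rw [hM, Polynomial.coeff_map, hc]
    exact AlgHom.commutes _ _
  have h1 := (hconst y).trans (hconst 1).symm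
  rw [map_one] at h1
  have h2 := LinearMap.aeval_self_charpoly (rep V y)
  rw [h1, LinearMap.charpoly_one] at h2
  exact ⟨Module.finrank k V, by simpa using h2⟩

/-- A connected affine group of dimension at most one has a commutative group of points. -/
theorem mul_comm_points [Ring.KrullDimLE 1 A] (hconn : ∀ e : A, IsIdempotentElem e → e = 0 ∨ e = 1)
    (x y : WithConv (A →ₐ[k] k)) : x * y = y * x := by
  by_cases hden : ∃ x : WithConv (A →ₐ[k] k),
      IsDenseSet ((fun g => g⁻¹ * x * g) '' (Set.univ : Set (WithConv (A →ₐ[k] k))))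
  swap
  · push Not at hden
    have hsub := (dense_or_subsingleton hconn ((isPreconnected_univ hconn).image _
      (continuous_conj x).continuousOn)).resolve_left (hden x)
    have e : y⁻¹ * x * y = x :=
      hsub ⟨y, trivial, rfl⟩ ⟨1, trivial, by simp⟩
    rw [mul_assoc, inv_mul_eq_iff_eq_mul] at e
    exact e
  obtain ⟨x₀, hx₀⟩ := hden
  have := Groth.Agent.S7986.result k A (isUnipotent_of_dense_orbit (k := k) hx₀)
  rw [← commutatorElement_eq_one_iff_mul_comm]
  have hmem : ⁅x, y⁆ ∈ derivedSeries (WithConv (A →ₐ[k] k)) 1 := by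
    rw [derivedSeries_succ, derivedSeries_zero]
    exact Subgroup.commutator_mem_commutator trivial trivial
  rcases dense_or_subsingleton hconn (isPreconnected_derived (k := k) (A := A) hconn 1) with hD | hD
  swap
  · exact hD hmem (one_mem _)
  -- a dense derived group contradicts nilpotency
  obtain ⟨N, hN⟩ := nilpotent_iff_lowerCentralSeries.1 this
  have hall : ∀ n z, z ∈ closureSub (Subgroup.lowerCentralSeries
      (⊤ : Subgroup (WithConv (A →ₐ[k] k))) n) := by
    intro n
    induction n with
    | zero => intro z; exact subset_closure trivial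
    | succ n ih =>
      intro z
      set L := Subgroup.lowerCentralSeries (⊤ : Subgroup (WithConv (A →ₐ[k] k))) (n + 1)
      have hle : derivedSeries (WithConv (A →ₐ[k] k)) 1 ≤ closureSub L := by
        rw [derivedSeries_succ, derivedSeries_zero, Subgroup.commutator_le]
        intro a _ b _
        refine map_mem_closure (continuous_commutator a) (ih b) fun c hc => ?_
        show ⁅a, c⁆ ∈ L
        rw [← commutatorElement_inv]
        exact L.inv_mem (Subgroup.commutator_mem_commutator hc trivial)
      by_contra hz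
      obtain ⟨a, ha, haz⟩ := exists_ne_zero_of_notMem_closure (hz : z ∉ closure (L : Set _))
      have h0 : a = 0 := hD a fun w hw => ?_
      · exact haz (by rw [h0, map_zero])
      have hcl : IsClosed {g : WithConv (A →ₐ[k] k) | g.ofConv a = 0} := isClosed_eval_eq a 0
      exact closure_minimal (fun s hs => ha s hs) hcl (hle hw)
  have h1 := hall N ⁅x, y⁆
  by_contra hne
  obtain ⟨a, ha⟩ : ∃ a : A, ⁅x, y⁆.ofConv a ≠ (1 : WithConv (A →ₐ[k] k)).ofConv a := by
    by_contra h
    push Not at h
    exact hne (WithConv.ext (AlgHom.ext h))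
  apply ha
  exact closure_minimal (fun s (hs : s ∈ _) => by
    rw [SetLike.mem_coe, hN, Subgroup.mem_bot] at hs
    rw [hs]; rfl) (isClosed_eval_eq a _) h1

end

/-- Commutativity of the points makes a reduced group cocommutative. -/
theorem isCocomm_of_mul_comm {k : Type u} [Field k] [IsAlgClosed k] {A : Type v} [CommRing A]
    [HopfAlgebra k A] [Algebra.FiniteType k A] [IsReduced A]
    (h : ∀ x y : WithConv (A →ₐ[k] k), x * y = y * x) : Coalgebra.IsCocomm k A := by
  refine ⟨LinearMap.ext fun a => ComodLib.ext_sliceL (V := A) fun φ => ?_⟩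
  refine eq_of_forall_point (k := k) fun g => ?_
  show g.ofConv (ComodLib.sliceL φ (TensorProduct.comm k A A (CoalgebraStruct.comul (R := k) a))) =
    g.ofConv (ComodLib.sliceL φ (CoalgebraStruct.comul (R := k) a))
  -- both sides are linear in `φ`, and agree on points
  have key : ∀ z : A ⊗[k] A, g.ofConv (ComodLib.sliceL φ z) =
      φ (ComodLib.slice g.ofConv.toLinearMap z) := fun z =>
    (ComodLib.apply_slice φ g.ofConv.toLinearMap z).symm
  rw [key, key]
  congr 1
  refine eq_of_forall_point (k := k) fun f => ?_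
  have hz : ∀ z : A ⊗[k] A, f.ofConv (ComodLib.slice g.ofConv.toLinearMap z) =
      LinearMap.mul' k k (TensorProduct.map f.ofConv.toLinearMap g.ofConv.toLinearMap z) := fun z => by
    induction z using TensorProduct.induction_on with
    | zero => simp
    | add z z' hz hz' => simp only [map_add, hz, hz']
    | tmul p q => simp [ComodLib.slice, mul_comm]
  have hc : ∀ z : A ⊗[k] A, LinearMap.mul' k k (TensorProduct.map f.ofConv.toLinearMap g.ofConv.toLinearMap
      (TensorProduct.comm k A A z)) =
      LinearMap.mul' k k (TensorProduct.map g.ofConv.toLinearMap f.ofConv.toLinearMap z) := fun z => by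
    induction z using TensorProduct.induction_on with
    | zero => simp
    | add z z' hz hz' => simp only [map_add, hz, hz']
    | tmul p q => simp [mul_comm]
  rw [hz, hz, hc]
  have := congrArg (fun w : WithConv (A →ₐ[k] k) => w.ofConv a) (h g f)
  rw [AlgHom.convMul_apply, AlgHom.convMul_apply] at this
  convert this using 1 <;>
  · generalize CoalgebraStruct.comul (R := k) a = z
    induction z using TensorProduct.induction_on with
    | zero => simp
    | add z z' hz hz' => simp only [map_add, hz, hz']
    | tmul p q => simp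

end Groth.Agent.LieKolchinLib
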